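import Groth.Agent.DerBCLib.Derived
import Groth.Agent.CohCmpLib.Res
import Groth.Agent.MiscFlat6.QuasiFlat
import Groth.Agent.KFlatLib.QCohPull

/-!
# Base change for complexes flat over the base
-/

set_option autoImplicit false
set_option backward.isDefEq.respectTransparency false
set_option backward.isDefEq.respectTransparency.types false
set_option linter.style.haveILetI false
set_option maxHeartbeats 1000000

universe u

open CategoryTheory CategoryTheory.Limits AlgebraicGeometry HomologicalComplex Opposite MonoidalCategory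
open Groth.Agent Groth.Agent.DerLib Groth.Agent.PerfDualLib Groth.Agent.ProjFormLib
open RpushLib (secFun)

attribute [local instance] HasDerivedCategory.standard

noncomputable section

namespace HKunLib

open DerBCLib

variable {X S X' S' : Scheme.{u}} {f : X ⟶ S} {g : S' ⟶ S} {f' : X' ⟶ S'} {g' : X' ⟶ X}

theorem isQCohD_toD (P : Cx X) (hq : ∀ i, Coh.IsQCoh (P.X i)) : DCoh.IsQCohD (DCoh.toD X P) := fun i =>
  @QCohLib.isQCoh_of_iso _ _ _ ((DerivedCategory.homologyFunctorFactors X.Modules i).app P).symm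
    (KFlatLib.isQCoh_homology_of_terms P hq i)

/-- A complex flat over the base is its own model. -/
theorem hasLocModel_flatTerms {P : Cx X} (hq : ∀ i, Coh.IsQCoh (P.X i)) (b : ℤ)
    (hb : ∀ i, b < i → IsZero (P.X i)) (hfl : ∀ i, FlatMod.IsFlatOver f (P.X i)) :
    HasLocModel f g g' P := by
  intro US hUS UT hUT hg V hV hVW
  letI := (g.appLE US UT hg).hom.toAlgebra
  refine ⟨P, P, 𝟙 P, 𝟙 P, fun n => @lq_of_qcoh _ _ hV _ (hq n), ?_, QisOn.of_quasiIso V (𝟙 P),
    QisOn.of_quasiIso V (𝟙 P), QisOn.of_quasiIso _ _, QisOn.of_quasiIso _ _⟩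
  let N := (secC V (f.appLE US V hVW).hom).obj P
  have hN : DRing.IsKFlat Γ(S, US) N :=
    KFlatLib.isKFlat_of_bounded_flat N b (fun i hi => (secFun V _).map_isZero (hb i hi))
      (fun i => RelPCSchLib.flat_sections f (P.X i) (hfl i) hV hUS hVW)
  refine (bGood_iff_flat _ hN (𝟙 N)).2 ?_
  rw [CategoryTheory.Functor.map_id, Category.id_comp]
  infer_instance

/-- Base change for a complex with terms flat over the base. -/
theorem nonempty_bc_flatTerms (H : IsPullback g' f' f g) [QuasiCompact f] [QuasiSeparated f]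
    [DCoh.HasRpush f] [DCoh.HasRpush f'] [DCoh.HasLpull g]
    (P : Cx X) (hq : ∀ i, Coh.IsQCoh (P.X i)) (b : ℤ) (hb : ∀ i, b < i → IsZero (P.X i))
    (hfl : ∀ i, FlatMod.IsFlatOver f (P.X i)) :
    Nonempty ((DCoh.Lpull g).obj ((DCoh.Rpush f).obj (DCoh.toD X P)) ≅
      (DCoh.Rpush f').obj (DCoh.toD X' ((pullC g').obj P))) := by
  obtain ⟨M, q, hM, hqis, hfl'⟩ := exists_injRes ((pullC g').obj P)
  haveI := hM
  haveI := hqis
  obtain ⟨d, -⟩ := exists_terminal_data g' (wi_of_isKInjective M) hfl' ((cxAdj g').homEquiv P M q)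
  haveI := quasiIso_bMap H (isQCohD_toD P hq) (hasLocModel_flatTerms hq b hb hfl) hfl' d
  haveI := d.qis
  let L' := (pushC f).obj d.L
  let A := (KFlatLib.resP S).obj L'
  let ψ : A ⟶ L' := (KFlatLib.resψ S).app L'
  haveI : QuasiIso ψ := KFlatLib.quasiIso_resψ _
  obtain ⟨e₁⟩ := nonempty_rpush_wi (f := f) d.wi
  obtain ⟨e₂⟩ := nonempty_push_iso (f := f') M
  exact ⟨(DCoh.Lpull g).mapIso ((DCoh.Rpush f).mapIso (asIso (DerivedCategory.Q.map d.j)) ≪≫ e₁ ≪≫
      (asIso (DerivedCategory.Q.map ψ)).symm) ≪≫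
    KFlatLib.lpullObjIso g A (KFlatLib.good_resP L').1 ≪≫
    asIso (DerivedCategory.Q.map (bMap H.w d)) ≪≫ e₂.symm ≪≫
    (DCoh.Rpush f').mapIso (asIso (DerivedCategory.Q.map q)).symm⟩

end HKunLib
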