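import Groth.Agent.DerBCLib.SecQcoh
import Groth.Agent.DerBCLib.Derived
import Groth.Agent.QRlimLib.Unbounded
import Groth.Prelude.Def_HTor

/-!
# Derived global sections over an affine base and derived direct images
-/

set_option autoImplicit false
set_option backward.isDefEq.respectTransparency false
set_option backward.isDefEq.respectTransparency.types false
set_option linter.style.haveILetI false
set_option maxHeartbeats 1000000

universe u

open CategoryTheory CategoryTheory.Limits AlgebraicGeometry HomologicalComplex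
open Groth.Agent Groth.Agent.DerLib Groth.Agent.PerfDualLib Groth.Agent.ProjFormLib

attribute [local instance] HasDerivedCategory.standard

noncomputable section

namespace HKunLib

open DerBCLib

variable {A : Type u} [CommRing A] {X : Scheme.{u}} (f : X ⟶ Spec (CommRingCat.of A))

theorem quasiIso_gammaF_wi {R : CommRingCat.{u}} {W W' : Cx (Spec (CommRingCat.of R))} (hW : WI W) (hW' : WI W')
    (e : W ⟶ W') [QuasiIso e] :
    QuasiIso (((TildeDerLib.gammaF R).mapHomologicalComplex (ComplexShape.up ℤ)).map e) := by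
  let ψ : R →+* Γ(Spec (CommRingCat.of R), ⊤) := (Scheme.ΓSpecIso R).inv.hom
  let E : RpushLib.secFun (⊤ : (Spec (CommRingCat.of R)).Opens) ψ ≅ TildeDerLib.gammaF R :=
    NatIso.ofComponents (fun M => @LinearEquiv.toModuleIso R _ _ _
      ((RpushLib.secFun (⊤ : (Spec (CommRingCat.of R)).Opens) ψ).obj M).isAddCommGroup
      ((TildeDerLib.gammaF R).obj M).isAddCommGroup
      ((RpushLib.secFun (⊤ : (Spec (CommRingCat.of R)).Opens) ψ).obj M).isModule
      ((TildeDerLib.gammaF R).obj M).isModule
      { toFun := fun m => m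
        invFun := fun m => m
        left_inv := fun _ => rfl
        right_inv := fun _ => rfl
        map_add' := fun _ _ => rfl
        map_smul' := fun r (m : Γ(M, ⊤)) => by
          change ψ r • m = r • m
          rw [Scheme.Modules.smul_Spec_def]
          congr 1 }) fun _ => rfl
  haveI := quasiIso_sec (V := (⊤ : (Spec (CommRingCat.of R)).Opens)) ψ hW hW' (QisOn.of_quasiIso ⊤ e)
  let η := NatIso.mapHomologicalComplex E (ComplexShape.up ℤ)
  haveI : QuasiIso (η.hom.app W ≫ ((TildeDerLib.gammaF R).mapHomologicalComplex (ComplexShape.up ℤ)).map e) := by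
    refine Eq.mpr (congrArg (fun k => QuasiIso k) (η.hom.naturality e).symm) ?_
    exact quasiIso_comp _ _
  exact quasiIso_of_comp_left (η.hom.app W) _

/-- `RΓ(X, K)` as a complex of modules is `RΓ` of the derived direct image. -/
theorem nonempty_RΓA_iso [DCoh.HasRpush f] [HTor.HasRΓA f] (K : DCoh.D X) :
    Nonempty ((HTor.RΓA f).obj K ≅
      (TildeDerLib.RGamma (CommRingCat.of A)).obj ((DCoh.Rpush f).obj K)) := by
  haveI := TildeDerLib.additive_gammaF (CommRingCat.of A)
  haveI := TildeDerLib.isRightDerived_RGamma (CommRingCat.of A)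
  obtain ⟨I, hI, ⟨e⟩⟩ := KInjDerived.essSurj_kInjective KFlatLib.enoughKInj_modules K
  haveI := hI
  let W := (pushC f).obj I
  obtain ⟨J, i, hJ, hi, -⟩ := exists_injRes W
  haveI := hJ
  haveI := hi
  let α := (HTor.gammaAKh f).totalRightDerivedUnit DerivedCategory.Qh
    (HomotopyCategory.quasiIso X.Modules (ComplexShape.up ℤ))
  haveI := KInjDerived.isIso_app (HTor.RΓA f) α KFlatLib.enoughKInj_modules I
  haveI := KInjDerived.isIso_app (TildeDerLib.RGamma (CommRingCat.of A))
    (TildeDerLib.RGammaUnit (CommRingCat.of A)) KFlatLib.enoughKInj_modules J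
  haveI := quasiIso_gammaF_wi (R := CommRingCat.of A) ((wi_of_isKInjective I).push f) (wi_of_isKInjective J) i
  obtain ⟨e₁⟩ := nonempty_push_iso (f := f) I
  let G := (TildeDerLib.gammaF (CommRingCat.of A)).mapHomologicalComplex (ComplexShape.up ℤ)
  let H := (HTor.globalSectionsA f).mapHomologicalComplex (ComplexShape.up ℤ)
  let eA : DerivedCategory.Q.obj (H.obj I) ≅ (HTor.RΓA f).obj K :=
    ((DerivedCategory.quotientCompQhIso (ModuleCat.{u} A)).app (H.obj I)).symm ≪≫
      DerivedCategory.Qh.mapIso
        (((HTor.globalSectionsA f).mapHomotopyCategoryFactors (ComplexShape.up ℤ)).app I).symm ≪≫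
      asIso (α.app ((HomotopyCategory.quotient X.Modules (ComplexShape.up ℤ)).obj I)) ≪≫
        (HTor.RΓA f).mapIso e
  let eJ : DerivedCategory.Q.obj (G.obj J) ≅
      (TildeDerLib.RGamma (CommRingCat.of A)).obj (DerivedCategory.Q.obj J) :=
    ((DerivedCategory.quotientCompQhIso _).app (G.obj J)).symm ≪≫
      DerivedCategory.Qh.mapIso
        (((TildeDerLib.gammaF (CommRingCat.of A)).mapHomotopyCategoryFactors (ComplexShape.up ℤ)).app J).symm ≪≫
      asIso ((TildeDerLib.RGammaUnit (CommRingCat.of A)).app ((HomotopyCategory.quotient _ (ComplexShape.up ℤ)).obj J)) ≪≫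
      (TildeDerLib.RGamma (CommRingCat.of A)).mapIso ((DerivedCategory.quotientCompQhIso _).app J)
  let eH : H.obj I ≅ G.obj W :=
    HomologicalComplex.Hom.isoOfComponents (fun _ => Iso.refl _)
      (fun a b _ => (Category.id_comp _).trans (Category.comp_id _).symm)
  exact ⟨eA.symm ≪≫ DerivedCategory.Q.mapIso eH ≪≫ asIso (DerivedCategory.Q.map (G.map i)) ≪≫ eJ ≪≫
    (TildeDerLib.RGamma (CommRingCat.of A)).mapIso ((asIso (DerivedCategory.Q.map i)).symm ≪≫ e₁.symm ≪≫
      (DCoh.Rpush f).mapIso e)⟩

/-- `L~` in the derived category. -/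
noncomputable abbrev tC (L : DRing.Cx A) : Cx (Spec (CommRingCat.of A)) :=
  ((tilde.functor (CommRingCat.of A)).mapHomologicalComplex (ComplexShape.up ℤ)).obj L

/-- Computing derived global sections is computing the derived direct image. -/
theorem computes_iff [QuasiCompact f] [QuasiSeparated f] [DCoh.HasRpush f] [HTor.HasRΓA f] (K : DCoh.D X)
    (hK : DCoh.IsQCohD K) (L : DRing.Cx A) :
    HTor.Computes f L K ↔ Nonempty (DCoh.toD _ (tC L) ≅ (DCoh.Rpush f).obj K) := by
  haveI : PreservesFiniteLimits (tilde.functor (CommRingCat.of A)) :=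
    ProjFormLib.preservesFiniteLimits_tilde (CommRingCat.of A)
  haveI := TildeDerLib.preservesFiniteColimits_tilde (CommRingCat.of A)
  let T := DCoh.tildeD (CommRingCat.of A)
  let eL : DCoh.toD _ (tC L) ≅ T.obj (DRing.toD L) :=
    ((tilde.functor (CommRingCat.of A)).mapDerivedCategoryFactors.app L).symm
  obtain ⟨b⟩ := nonempty_RΓA_iso f K
  haveI := TildeDerLib.isIso_counit (CommRingCat.of A) (QRlimLib.isQCohD_rpush f hK)
  constructor
  · rintro ⟨e⟩
    exact ⟨eL ≪≫ T.mapIso (e ≪≫ b) ≪≫ asIso ((TildeDerLib.adjD (CommRingCat.of A)).counit.app _)⟩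
  · rintro ⟨e⟩
    haveI := TildeDerLib.isIso_unit (CommRingCat.of A)
    exact ⟨(asIso (TildeDerLib.adjD (CommRingCat.of A)).unit).app _ ≪≫
      (TildeDerLib.RGamma (CommRingCat.of A)).mapIso (eL.symm ≪≫ e) ≪≫ b.symm⟩

end HKunLib
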