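import Groth.Agent.ProjFormLib.QCohMain
import Groth.Agent.KFlatLib.LpullTensor
import Groth.Agent.KFlatLib.QCohTensor
import Groth.Agent.DerBCLib.TorAcy
import Groth.Prelude.Def_FlatMod2

/-!
# Tensoring a complex flat over the base with a complex pulled back from the base
-/

set_option autoImplicit false
set_option backward.isDefEq.respectTransparency false
set_option backward.isDefEq.respectTransparency.types false
set_option linter.style.haveILetI false
set_option maxHeartbeats 1000000

universe u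

open CategoryTheory CategoryTheory.Limits AlgebraicGeometry MonoidalCategory HomologicalComplex
open Groth.Agent Groth.Agent.DerLib Groth.Agent.PerfDualLib Groth.Agent.ProjFormLib
open KFlatLib (tCx stalkCx extCx stalkTensorCxIso stalkPullCxIso)

attribute [local instance] HasDerivedCategory.standard

noncomputable section

namespace HKunLib

section Ring

variable {A B : Type u} [CommRing A] [CommRing B] (φ : A →+* B)

/-- A complex flat over the base, tensored with an extended quasi-isomorphism. -/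
theorem quasiIso_tensor_extend {P : CochainComplex (ModuleCat.{u} B) ℤ}
    (hP : DRing.IsKFlat A (((ModuleCat.restrictScalars φ).mapHomologicalComplex (ComplexShape.up ℤ)).obj P))
    {K L : CochainComplex (ModuleCat.{u} A) ℤ} (g : K ⟶ L) [QuasiIso g] :
    QuasiIso (KFlatLib.tMap (𝟙 P) (((ModuleCat.extendScalars.{u, u, u} φ).mapHomologicalComplex (ComplexShape.up ℤ)).map g)) := by
  let rs := (ModuleCat.restrictScalars φ).mapHomologicalComplex (ComplexShape.up ℤ)
  let e₁ := fun M => KFlatLib.totalMapIso (KFlatLib.extTensor φ) (curriedTensor (ModuleCat.{u} A))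
    (ModuleCat.restrictScalars φ) (𝟭 (ModuleCat.{u} A)) (ModuleCat.restrictScalars φ)
    (fun a b => asIso (KFlatLib.projHom φ a b))
    (fun f b => KFlatLib.projHom_natural_left φ f b) (fun a {_ _} g => KFlatLib.projHom_natural_right φ a g) P M
  let e₂ := fun M => KFlatLib.totalMapIso (KFlatLib.extTensor φ) (curriedTensor (ModuleCat.{u} B))
    (𝟭 (ModuleCat.{u} B)) (ModuleCat.extendScalars.{u, u, u} φ) (𝟭 (ModuleCat.{u} B))
    (fun _ _ => Iso.refl _) (fun _ _ => (Category.comp_id _).trans (Category.id_comp _).symm)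
    (fun _ {_ _} _ => (Category.comp_id _).trans (Category.id_comp _).symm) P M
  let m := mapBifunctorMap (𝟙 P) g (KFlatLib.extTensor φ) (ComplexShape.up ℤ)
  have h₁ := KFlatLib.totalMapIso_natural (KFlatLib.extTensor φ) (curriedTensor (ModuleCat.{u} A))
    (ModuleCat.restrictScalars φ) (𝟭 (ModuleCat.{u} A)) (ModuleCat.restrictScalars φ)
    (fun a b => asIso (KFlatLib.projHom φ a b))
    (fun f b => KFlatLib.projHom_natural_left φ f b) (fun a {_ _} g => KFlatLib.projHom_natural_right φ a g)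
    (𝟙 P) g
  have h₂ := KFlatLib.totalMapIso_natural (KFlatLib.extTensor φ) (curriedTensor (ModuleCat.{u} B))
    (𝟭 (ModuleCat.{u} B)) (ModuleCat.extendScalars.{u, u, u} φ) (𝟭 (ModuleCat.{u} B))
    (fun _ _ => Iso.refl _) (fun _ _ => (Category.comp_id _).trans (Category.id_comp _).symm)
    (fun _ {_ _} _ => (Category.comp_id _).trans (Category.id_comp _).symm)
    (𝟙 P) g
  haveI : QuasiIso (KFlatLib.tMap (𝟙 (rs.obj P)) g) := KFlatLib.quasiIso_tMap_left hP g
  haveI : QuasiIso (rs.map m) := by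
    haveI : QuasiIso (mapBifunctorMap (rs.map (𝟙 P))
        (((𝟭 (ModuleCat.{u} A)).mapHomologicalComplex (ComplexShape.up ℤ)).map g)
        (curriedTensor (ModuleCat.{u} A)) (ComplexShape.up ℤ)) := by
      rw [CategoryTheory.Functor.map_id]
      exact ‹QuasiIso (KFlatLib.tMap (𝟙 (rs.obj P)) g)›
    haveI : QuasiIso ((e₁ K).hom ≫ rs.map m) := h₁ ▸ quasiIso_comp _ (e₁ L).hom
    exact quasiIso_of_comp_left (e₁ K).hom _
  haveI : QuasiIso m := (quasiIso_map_iff_of_preservesHomology _ (ModuleCat.restrictScalars φ)).1 inferInstance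
  haveI : QuasiIso ((e₂ K).hom ≫ ((𝟭 (ModuleCat.{u} B)).mapHomologicalComplex (ComplexShape.up ℤ)).map m) :=
    haveI : QuasiIso (((𝟭 (ModuleCat.{u} B)).mapHomologicalComplex (ComplexShape.up ℤ)).map m) := ‹QuasiIso m›
    quasiIso_comp _ _
  exact (quasiIso_iff_comp_right _ (e₂ L).hom).1
    (h₂.symm ▸ (‹QuasiIso ((e₂ K).hom ≫ _)›))

end Ring

variable {X S : Scheme.{u}} (f : X ⟶ S)

/-- Stalks of a complex with flat terms over the base are K-flat over the base. -/
theorem isKFlat_stalk_over {P : Cx X} (b : ℤ) (hb : ∀ i, b < i → IsZero (P.X i))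
    (hfl : ∀ i, FlatMod.IsFlatOver f (P.X i)) (x : X) :
    DRing.IsKFlat (S.presheaf.stalk (f x))
      (((ModuleCat.restrictScalars (f.stalkMap x).hom).mapHomologicalComplex (ComplexShape.up ℤ)).obj
        ((stalkCx X x).obj P)) :=
  KFlatLib.isKFlat_of_bounded_flat _ b
    (fun i hi => (ModuleCat.restrictScalars _).map_isZero ((DerSch.stalkFunctor X x).map_isZero (hb i hi)))
    (fun i => hfl i x)

/-- Tensoring a complex flat over the base with a pulled back quasi-isomorphism. -/
theorem quasiIso_tensor_pull {P : Cx X} (b : ℤ) (hb : ∀ i, b < i → IsZero (P.X i))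
    (hfl : ∀ i, FlatMod.IsFlatOver f (P.X i)) {K L : Cx S} (g : K ⟶ L) [QuasiIso g] :
    QuasiIso (((DCoh.tensorCx (X := X)).obj P).map ((pullC f).map g)) := by
  change QuasiIso (mapBifunctorMap (𝟙 P) ((pullC f).map g) (DCoh.tensorBi (X := X)) (ComplexShape.up ℤ))
  rw [KFlatLib.quasiIso_mapBifunctorMap_iff]
  intro x
  rw [CategoryTheory.Functor.map_id]
  let σ := (stalkCx X x).obj P
  haveI : QuasiIso ((stalkCx S (f x)).map g) := (KFlatLib.quasiIso_iff_stalks g).1 inferInstance (f x)
  haveI h : QuasiIso (KFlatLib.tMap (𝟙 σ) ((extCx f x).map ((stalkCx S (f x)).map g))) :=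
    quasiIso_tensor_extend (f.stalkMap x).hom (isKFlat_stalk_over f b hb hfl x) ((stalkCx S (f x)).map g)
  let gS := (stalkCx X x).map ((pullC f).map g)
  have e : gS = (stalkPullCxIso f x K).hom ≫ (extCx f x).map ((stalkCx S (f x)).map g) ≫
      (stalkPullCxIso f x L).inv :=
    ((Iso.eq_comp_inv _).2 (KFlatLib.stalkPullCxIso_natural f x g)).trans (Category.assoc _ _ _)
  change QuasiIso (σ ◁ gS)
  rw [e, MonoidalCategory.whiskerLeft_comp, MonoidalCategory.whiskerLeft_comp]
  haveI : QuasiIso (σ ◁ (extCx f x).map ((stalkCx S (f x)).map g)) :=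
    (congrArg (fun k => QuasiIso k) (id_tensorHom _ _)).mp h
  infer_instance

/-- The tensor product with a pulled back complex is derived. -/
theorem nonempty_tensor_pull {P : Cx X} (b : ℤ) (hb : ∀ i, b < i → IsZero (P.X i))
    (hfl : ∀ i, FlatMod.IsFlatOver f (P.X i)) (N : Cx S)
    [DCoh.HasLTensorCx ((pullC f).obj ((KFlatLib.resP S).obj N))] :
    Nonempty ((DCoh.LTensorCx ((pullC f).obj ((KFlatLib.resP S).obj N))).obj (DCoh.toD X P) ≅
      DCoh.toD X (tCx P ((pullC f).obj N))) := by
  let F := (KFlatLib.resP S).obj N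
  let q : F ⟶ N := (KFlatLib.resψ S).app N
  haveI : QuasiIso q := KFlatLib.quasiIso_resψ N
  have hF : DCoh.IsKFlat ((pullC f).obj F) := KFlatLib.isKFlat_pull f (KFlatLib.good_resP N).1
  haveI := quasiIso_tensor_pull f b hb hfl q
  haveI := TensorAssocLib.isIso_cnt ((pullC f).obj F) hF P
  exact ⟨asIso ((TensorAssocLib.cnt ((pullC f).obj F)).app P) ≪≫
    asIso (DerivedCategory.Q.map (((DCoh.tensorCx (X := X)).obj P).map ((pullC f).map q)))⟩

/-- Derived tensor products are symmetric. -/
theorem nonempty_lTensor_comm (K L : Cx X) [DCoh.HasLTensorCx K] [DCoh.HasLTensorCx L] :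
    Nonempty ((DCoh.LTensorCx K).obj (DCoh.toD X L) ≅ (DCoh.LTensorCx L).obj (DCoh.toD X K)) := by
  let F := (KFlatLib.resP X).obj K
  let G := (KFlatLib.resP X).obj L
  let q : F ⟶ K := (KFlatLib.resψ X).app K
  let r : G ⟶ L := (KFlatLib.resψ X).app L
  haveI : QuasiIso q := KFlatLib.quasiIso_resψ K
  haveI : QuasiIso r := KFlatLib.quasiIso_resψ L
  haveI := KFlatLib.hasLTensorCx F
  haveI := KFlatLib.hasLTensorCx G
  obtain ⟨a⟩ := nonempty_lTensor_congr q
  obtain ⟨b⟩ := nonempty_lTensor_congr r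
  haveI := TensorAssocLib.isIso_cnt F (KFlatLib.good_resP K).1 G
  haveI := TensorAssocLib.isIso_cnt G (KFlatLib.good_resP L).1 F
  exact ⟨(DCoh.LTensorCx K).mapIso (asIso (DerivedCategory.Q.map r)).symm ≪≫ a.symm.app _ ≪≫
    asIso ((TensorAssocLib.cnt F).app G) ≪≫ DerivedCategory.Q.mapIso (KFlatLib.tCxFlip F G) ≪≫
    (asIso ((TensorAssocLib.cnt G).app F)).symm ≪≫ b.app _ ≪≫
    (DCoh.LTensorCx L).mapIso (asIso (DerivedCategory.Q.map q))⟩

end HKunLib
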