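import Groth.Agent.HKunLib.Bridge
import Groth.Agent.HKunLib.Tensor
import Groth.Agent.HKunLib.BC
import Groth.Agent.KFlatLib.TildeKFlat
import Groth.Agent.KFlatLib.LpullAdj
import Groth.Agent.AffDualLib.TildeTensor
import Groth.Agent.SweepSix.TildePull
import Groth.Agent.ProjFormLib.QCohMain
import Groth.Prelude.Def_HTor

/-!
# Künneth formulas for complexes flat over the base
-/

set_option autoImplicit false
set_option backward.isDefEq.respectTransparency false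
set_option backward.isDefEq.respectTransparency.types false
set_option linter.style.haveILetI false
set_option maxHeartbeats 1000000

universe u

open CategoryTheory CategoryTheory.Limits AlgebraicGeometry MonoidalCategory HomologicalComplex
open Groth.Agent Groth.Agent.DerLib Groth.Agent.PerfDualLib Groth.Agent.ProjFormLib
open KFlatLib (tCx)

attribute [local instance] HasDerivedCategory.standard

noncomputable section

namespace HKunLib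

variable {X Y S : Scheme.{u}}

theorem nonempty_rpush_congr {f g : X ⟶ Y} (h : f = g) [DCoh.HasRpush f] [DCoh.HasRpush g] :
    Nonempty (DCoh.Rpush f ≅ DCoh.Rpush g) := by
  subst h
  exact ⟨Iso.refl _⟩

theorem isQCoh_pullC {f : X ⟶ Y} {P : Cx Y} (hq : ∀ i, Coh.IsQCoh (P.X i)) (i : ℤ) :
    Coh.IsQCoh (((pullC f).obj P).X i) :=
  haveI := hq i
  KFlatLib.isQCoh_pullback f (P.X i)

theorem isQCoh_tilde {R : CommRingCat.{u}} (M : ModuleCat.{u} R) :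
    Coh.IsQCoh (X := Spec R) ((tilde.functor R).obj M) :=
  inferInstanceAs (((tilde.functor R).obj M).IsQuasicoherent)

section Projection

variable (f : X ⟶ S) {P : Cx X} (hq : ∀ i, Coh.IsQCoh (P.X i)) (b : ℤ) (hb : ∀ i, b < i → IsZero (P.X i))
  (hfl : ∀ i, FlatMod.IsFlatOver f (P.X i)) (N : Cx S) (hN : DCoh.IsQCohD (DCoh.toD S N))

include hq hb hfl hN

theorem isQCohD_tensor_pull : DCoh.IsQCohD (DCoh.toD X (tCx P ((pullC f).obj N))) := by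
  haveI := KFlatLib.hasLTensorCx ((pullC f).obj ((KFlatLib.resP S).obj N))
  haveI := KFlatLib.hasLpull f
  obtain ⟨e⟩ := nonempty_tensor_pull f b hb hfl N
  haveI : QuasiIso ((KFlatLib.resψ S).app N) := KFlatLib.quasiIso_resψ N
  refine KFlatLib.isQCohD_iso e (KFlatLib.isQCohD_lTensorCx _ ?_ _ (isQCohD_toD P hq))
  exact KFlatLib.isQCohD_iso (KFlatLib.lpullObjIso f _ (KFlatLib.good_resP N).1)
    (KFlatLib.isQCohD_lpull f _ fun i => KFlatLib.isQCohD_iso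
      (asIso (DerivedCategory.Q.map ((KFlatLib.resψ S).app N))).symm hN i)

/-- The projection formula for a complex with terms flat over the base. -/
theorem nonempty_rpush_tensor_pull [QuasiCompact f] [QuasiSeparated f] [DCoh.HasRpush f]
    [DCoh.HasLTensorCx N] :
    Nonempty ((DCoh.Rpush f).obj (DCoh.toD X (tCx P ((pullC f).obj N))) ≅
      (DCoh.LTensorCx N).obj ((DCoh.Rpush f).obj (DCoh.toD X P))) := by
  let F := (KFlatLib.resP S).obj N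
  let q : F ⟶ N := (KFlatLib.resψ S).app N
  haveI : QuasiIso q := KFlatLib.quasiIso_resψ N
  haveI := KFlatLib.hasLTensorCx F
  haveI := KFlatLib.hasLTensorCx ((pullC f).obj F)
  haveI := KFlatLib.hasLpull f
  obtain ⟨e⟩ := nonempty_tensor_pull f b hb hfl N
  obtain ⟨p⟩ := nonempty_projection_DQCoh f (DCoh.toD X P) (isQCohD_toD P hq) F
    (KFlatLib.isQCohD_iso (asIso (DerivedCategory.Q.map q)).symm hN) ((pullC f).obj F)
    ⟨(KFlatLib.lpullObjIso f F (KFlatLib.good_resP N).1).symm⟩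
  obtain ⟨a⟩ := nonempty_lTensor_congr q
  exact ⟨(DCoh.Rpush f).mapIso e.symm ≪≫ p.symm ≪≫ a.app _⟩

end Projection

/-- The Künneth formula. -/
theorem nonempty_kunneth {X₁ X₂ : Scheme.{u}} (f₁ : X₁ ⟶ S) (f₂ : X₂ ⟶ S)
    [QuasiCompact f₁] [IsSeparated f₁] [QuasiCompact f₂] [IsSeparated f₂]
    [DCoh.HasRpush f₁] [DCoh.HasRpush f₂] [DCoh.HasRpush (pullback.fst f₁ f₂ ≫ f₁)]
    (P₁ : Cx X₁) (P₂ : Cx X₂) (hq₁ : ∀ i : ℤ, Coh.IsQCoh (P₁.X i)) (hq₂ : ∀ i : ℤ, Coh.IsQCoh (P₂.X i))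
    (b : ℤ) (hb : ∀ i : ℤ, b < i → IsZero (P₁.X i)) (hfl : ∀ i : ℤ, FlatMod.IsFlatOver f₁ (P₁.X i))
    (E₂ : Cx S) (hE₂ : Nonempty (DCoh.toD S E₂ ≅ (DCoh.Rpush f₂).obj (DCoh.toD X₂ P₂)))
    [DCoh.HasLTensorCx E₂] :
    Nonempty ((DCoh.Rpush (pullback.fst f₁ f₂ ≫ f₁)).obj (DCoh.toD _ (HTor.extTensorCx f₁ f₂ P₁ P₂)) ≅
      (DCoh.LTensorCx E₂).obj ((DCoh.Rpush f₁).obj (DCoh.toD X₁ P₁))) := by
  obtain ⟨eE₂⟩ := hE₂
  let p₁ := pullback.fst f₁ f₂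
  let p₂ := pullback.snd f₁ f₂
  haveI := DCohRestrLib.hasRpush p₂
  haveI := DCohRestrLib.hasRpush (p₂ ≫ f₂)
  haveI := KFlatLib.hasLpull p₂
  haveI := KFlatLib.hasLpull f₂
  haveI := KFlatLib.hasLpull (p₂ ≫ f₂)
  let P₁' := (pullC p₁).obj P₁
  have hq₁' : ∀ i, Coh.IsQCoh (P₁'.X i) := isQCoh_pullC hq₁
  have hb' : ∀ i, b < i → IsZero (P₁'.X i) := fun i hi => (Scheme.Modules.pullback p₁).map_isZero (hb i hi)
  have hfl' : ∀ i, FlatMod.IsFlatOver p₂ (P₁'.X i) := fun i =>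
    haveI := hq₁ i
    MiscFlat6.QFlat.isFlatOver_pullback f₁ (P₁.X i) (hfl i) f₂
  haveI := KFlatLib.hasLTensorCx P₂
  obtain ⟨c⟩ := nonempty_rpush_tensor_pull p₂ hq₁' b hb' hfl' P₂ (isQCohD_toD P₂ hq₂)
  obtain ⟨bc⟩ := nonempty_bc_flatTerms (IsPullback.of_hasPullback f₁ f₂) P₁ hq₁ b hb hfl
  obtain ⟨A₁, hA₁, ⟨eA₁⟩⟩ := KFlatLib.exists_good_rep ((DCoh.Rpush f₁).obj (DCoh.toD X₁ P₁))
  haveI := KFlatLib.hasLTensorCx A₁
  haveI := KFlatLib.hasLTensorCx ((pullC f₂).obj A₁)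
  obtain ⟨m⟩ := nonempty_lTensor_comm P₂ ((pullC f₂).obj A₁)
  obtain ⟨p⟩ := nonempty_projection_DQCoh f₂ (DCoh.toD X₂ P₂) (isQCohD_toD P₂ hq₂) A₁
    (KFlatLib.isQCohD_iso eA₁.symm (QRlimLib.isQCohD_rpush f₁ (isQCohD_toD P₁ hq₁))) ((pullC f₂).obj A₁)
    ⟨(KFlatLib.lpullObjIso f₂ A₁ hA₁.1).symm⟩
  obtain ⟨n⟩ := nonempty_lTensor_comm A₁ E₂
  obtain ⟨r₁⟩ := nonempty_rpush_congr (pullback.condition : p₁ ≫ f₁ = p₂ ≫ f₂)
  obtain ⟨r₂⟩ := KFlatLib.rpush_comp p₂ f₂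
  exact ⟨r₁.app _ ≪≫ r₂.symm.app _ ≪≫ (DCoh.Rpush f₂).mapIso (c ≪≫
      (DCoh.LTensorCx P₂).mapIso (bc.symm ≪≫ (DCoh.Lpull f₂).mapIso eA₁.symm ≪≫
        KFlatLib.lpullObjIso f₂ A₁ hA₁.1) ≪≫ m) ≪≫
    p.symm ≪≫ (DCoh.LTensorCx A₁).mapIso eE₂.symm ≪≫ n ≪≫ (DCoh.LTensorCx E₂).mapIso eA₁⟩

section Affine

variable {A : Type u} [CommRing A]

theorem isKFlat_of_projective (L : DRing.Cx A) (hL : ∀ i : ℤ, Projective (L.X i))
    (c : ∃ c : ℤ, DRing.VanishesAbove L c) : DRing.IsKFlat A L := by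
  obtain ⟨c, hc⟩ := c
  refine KFlatLib.isKFlat_of_bounded_flat L c hc fun i => ?_
  haveI := hL i
  haveI : Module.Projective A (L.X i) := (IsProjective.iff_projective (L.X i)).2 (hL i)
  infer_instance

theorem isQCohD_tC (L : DRing.Cx A) : DCoh.IsQCohD (DCoh.toD _ (tC L)) :=
  isQCohD_toD (tC L) fun i => isQCoh_tilde (R := CommRingCat.of A) (L.X i)

theorem isKFlat_tC (L : DRing.Cx A) (hL : DRing.IsKFlat A L) : DCoh.IsKFlat (tC L) :=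
  KFlatLib.isKFlat_tilde hL

/-- `K~ ⊗^L L~ ≅ (L ⊗ K)~` for K-flat `L`. -/
theorem nonempty_lTensor_tilde (L K : DRing.Cx A) (hL : DRing.IsKFlat A L) [DCoh.HasLTensorCx (tC K)] :
    Nonempty ((DCoh.LTensorCx (tC K)).obj (DCoh.toD _ (tC L)) ≅ DCoh.toD _ (tC (HTor.tensorCx L K))) := by
  haveI : PreservesFiniteLimits (tilde.functor (CommRingCat.of A)) :=
    ProjFormLib.preservesFiniteLimits_tilde (CommRingCat.of A)
  obtain ⟨e⟩ := KFlatLib.exists_lTensorCxObjIso (tC K) (tC L) (isKFlat_tC L hL)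
  exact ⟨e ≪≫ DerivedCategory.Q.mapIso ((AffDualLib.tildeTensorIso A K).app L).symm⟩

/-- Pulling back `L~` along a ring map. -/
def pullTildeCxIso {A' : Type u} [CommRing A'] (φ : A →+* A') (L : DRing.Cx A) :
    (pullC (Spec.map (CommRingCat.ofHom φ))).obj (tC L) ≅ tC (CohIII.bcCx φ L) :=
  Hom.isoOfComponents (fun i => (SweepSix.tildePullIso (CommRingCat.ofHom φ)).app (L.X i))
    fun i j _ => ((SweepSix.tildePullIso (CommRingCat.ofHom φ)).hom.naturality (L.d i j)).symm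

variable {A' : Type u} [CommRing A'] (φ : A →+* A')

theorem computes_baseChange (f : X ⟶ Spec (CommRingCat.of A)) [QuasiCompact f] [IsSeparated f] [HTor.HasRΓA f]
    [HTor.HasRΓA (pullback.snd f (Spec.map (CommRingCat.ofHom φ)))]
    (P : Cx X) (hq : ∀ i : ℤ, Coh.IsQCoh (P.X i))
    (b : ℤ) (hb : ∀ i : ℤ, b < i → IsZero (P.X i)) (hfl : ∀ i : ℤ, FlatMod.IsFlatOver f (P.X i))
    (L : DRing.Cx A) (hL : DRing.IsKFlat A L) (e : HTor.Computes f L (DCoh.toD X P)) :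
    HTor.Computes (pullback.snd f (Spec.map (CommRingCat.ofHom φ))) (CohIII.bcCx φ L)
      (DCoh.toD _ ((pullC (pullback.fst f (Spec.map (CommRingCat.ofHom φ)))).obj P)) := by
  let g := Spec.map (CommRingCat.ofHom φ)
  haveI := DCohRestrLib.hasRpush f
  haveI := DCohRestrLib.hasRpush (pullback.snd f g)
  haveI := KFlatLib.hasLpull g
  obtain ⟨e⟩ := (computes_iff f _ (isQCohD_toD P hq) L).1 e
  refine (computes_iff _ _ (isQCohD_toD _ (isQCoh_pullC hq)) _).2 ?_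
  obtain ⟨bc⟩ := nonempty_bc_flatTerms (IsPullback.of_hasPullback f g) P hq b hb hfl
  exact ⟨DerivedCategory.Q.mapIso (pullTildeCxIso φ L).symm ≪≫
    (KFlatLib.lpullObjIso g (tC L) (isKFlat_tC L hL)).symm ≪≫ (DCoh.Lpull g).mapIso e ≪≫ bc⟩

theorem computes_tensorA (f : X ⟶ Spec (CommRingCat.of A)) [QuasiCompact f] [IsSeparated f] [HTor.HasRΓA f]
    (P : Cx X) (hq : ∀ i : ℤ, Coh.IsQCoh (P.X i))
    (b : ℤ) (hb : ∀ i : ℤ, b < i → IsZero (P.X i)) (hfl : ∀ i : ℤ, FlatMod.IsFlatOver f (P.X i))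
    (L : DRing.Cx A) (hL : DRing.IsKFlat A L) (e : HTor.Computes f L (DCoh.toD X P)) (Q : DRing.Cx A) :
    HTor.Computes f (HTor.tensorCx L Q) (DCoh.toD X (HTor.tensorACx f P Q)) := by
  haveI := DCohRestrLib.hasRpush f
  haveI := KFlatLib.hasLTensorCx (tC Q)
  obtain ⟨e⟩ := (computes_iff f _ (isQCohD_toD P hq) L).1 e
  refine (computes_iff f _ (isQCohD_tensor_pull f hq b hb hfl (tC Q) (isQCohD_tC Q)) _).2 ?_
  obtain ⟨c⟩ := nonempty_rpush_tensor_pull f hq b hb hfl (tC Q) (isQCohD_tC Q)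
  obtain ⟨t⟩ := nonempty_lTensor_tilde L Q hL
  exact ⟨t.symm ≪≫ (DCoh.LTensorCx (tC Q)).mapIso e ≪≫ c.symm⟩

theorem computes_extTensor {X₁ X₂ : Scheme.{u}}
    (f₁ : X₁ ⟶ Spec (CommRingCat.of A)) (f₂ : X₂ ⟶ Spec (CommRingCat.of A))
    [QuasiCompact f₁] [IsSeparated f₁] [QuasiCompact f₂] [IsSeparated f₂]
    [HTor.HasRΓA f₁] [HTor.HasRΓA f₂] [HTor.HasRΓA (pullback.fst f₁ f₂ ≫ f₁)]
    (P₁ : Cx X₁) (P₂ : Cx X₂) (hq₁ : ∀ i : ℤ, Coh.IsQCoh (P₁.X i)) (hq₂ : ∀ i : ℤ, Coh.IsQCoh (P₂.X i))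
    (b : ℤ) (hb : ∀ i : ℤ, b < i → IsZero (P₁.X i)) (hfl : ∀ i : ℤ, FlatMod.IsFlatOver f₁ (P₁.X i))
    (L₁ L₂ : DRing.Cx A) (hL₁ : DRing.IsKFlat A L₁)
    (e₁ : HTor.Computes f₁ L₁ (DCoh.toD X₁ P₁)) (e₂ : HTor.Computes f₂ L₂ (DCoh.toD X₂ P₂)) :
    HTor.Computes (pullback.fst f₁ f₂ ≫ f₁) (HTor.tensorCx L₁ L₂)
      (DCoh.toD (pullback f₁ f₂) (HTor.extTensorCx f₁ f₂ P₁ P₂)) := by
  haveI := DCohRestrLib.hasRpush f₁
  haveI := DCohRestrLib.hasRpush f₂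
  haveI := DCohRestrLib.hasRpush (pullback.fst f₁ f₂ ≫ f₁)
  haveI := KFlatLib.hasLTensorCx (tC L₂)
  obtain ⟨e₁⟩ := (computes_iff f₁ _ (isQCohD_toD P₁ hq₁) L₁).1 e₁
  have e₂' := (computes_iff f₂ _ (isQCohD_toD P₂ hq₂) L₂).1 e₂
  refine (computes_iff _ _ (isQCohD_tensor_pull (pullback.snd f₁ f₂) (P := (pullC (pullback.fst f₁ f₂)).obj P₁)
    (isQCoh_pullC hq₁) b (fun i hi => (Scheme.Modules.pullback _).map_isZero (hb i hi)) ?_ P₂
    (isQCohD_toD P₂ hq₂)) _).2 ?_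
  · intro i
    haveI := hq₁ i
    exact MiscFlat6.QFlat.isFlatOver_pullback f₁ (P₁.X i) (hfl i) f₂
  obtain ⟨k⟩ := nonempty_kunneth f₁ f₂ P₁ P₂ hq₁ hq₂ b hb hfl (tC L₂) e₂'
  obtain ⟨t⟩ := nonempty_lTensor_tilde L₁ L₂ hL₁
  exact ⟨t.symm ≪≫ (DCoh.LTensorCx (tC L₂)).mapIso e₁ ≪≫ k.symm⟩

end Affine

end HKunLib
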